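import Groth.Agent.Triage.ZMTBirPt
import Mathlib.AlgebraicGeometry.Morphisms.Proper

/-! Birational proper maps near a normal point with a quasi-finite preimage. -/

universe u

open CategoryTheory Limits AlgebraicGeometry TopologicalSpace

set_option backward.isDefEq.respectTransparency false
set_option backward.isDefEq.respectTransparency.types false

namespace Groth.Agent.VarBir

variable {X Y : Scheme.{u}}

theorem generic_data [IsIntegral X] [IsIntegral Y] (f : Y ⟶ X) (W : X.Opens)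
    (hW : (W : Set X).Nonempty) (hfW : IsIso (f ∣_ W)) :
    f (genericPoint Y) = genericPoint X ∧ IsIso (f.stalkMap (genericPoint Y)) ∧
      ∀ z : Y, f z = genericPoint X → z = genericPoint Y := by
  haveI := hfW
  have hgW : genericPoint X ∈ W :=
    ((genericPoint_spec X).mem_open_set_iff W.2).2 (by simpa using hW)
  have hbij := (f ∣_ W).homeomorph.bijective
  obtain ⟨z₀, hz₀⟩ := hbij.2 ⟨genericPoint X, hgW⟩
  haveI : Nonempty ↥(f ⁻¹ᵁ W) := ⟨z₀⟩
  have hzW : genericPoint Y ∈ f ⁻¹ᵁ W :=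
    ((genericPoint_spec Y).mem_open_set_iff (f ⁻¹ᵁ W).2).2 (by simpa using ⟨z₀.1, z₀.2⟩)
  have hval : ∀ z : ↥(f ⁻¹ᵁ W), ((f ∣_ W) z : ↥W).1 = f z.1 := fun z => congr_arg Subtype.val
    (Subtype.ext (by rw [← Scheme.Opens.ι_apply, ← Scheme.Hom.comp_apply, morphismRestrict_ι]; rfl) :
      (f ∣_ W) z = (⟨f z.1, z.2⟩ : ↥W))
  have hgen : f (genericPoint Y) = genericPoint X := by
    have h1 : f (genericPoint Y) ⤳ f z₀.1 := (genericPoint_specializes z₀.1).map f.continuous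
    rw [show f z₀.1 = genericPoint X from (hval z₀).symm.trans (congrArg Subtype.val hz₀)] at h1
    exact (h1.antisymm (genericPoint_specializes _)).eq
  refine ⟨hgen, ?_, fun z hz => ?_⟩
  · exact ((MorphismProperty.isomorphisms CommRingCat).arrow_mk_iso_iff
      (morphismRestrictStalkMap f W ⟨genericPoint Y, hzW⟩)).1
      (show IsIso ((f ∣_ W).stalkMap ⟨genericPoint Y, hzW⟩) from inferInstance)
  · have hz' : z ∈ f ⁻¹ᵁ W := show f z ∈ W from hz ▸ hgW
    exact congr_arg Subtype.val (hbij.1 (a₁ := ⟨z, hz'⟩) (a₂ := ⟨genericPoint Y, hzW⟩)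
      (Subtype.ext (show ((f ∣_ W) ⟨z, hz'⟩ : ↥W).1 = ((f ∣_ W) ⟨genericPoint Y, hzW⟩ : ↥W).1 from
        (hval ⟨z, hz'⟩).trans ((hz.trans hgen.symm).trans (hval ⟨genericPoint Y, hzW⟩).symm))))

theorem exists_isIso_of_isIso_stalkMap [IsIntegral X] [IsIntegral Y] (f : Y ⟶ X) [IsSeparated f]
    [LocallyOfFiniteType f] (hgen : f (genericPoint Y) = genericPoint X)
    (huniq : ∀ z : Y, f z = genericPoint X → z = genericPoint Y) (y : Y)
    (hy : IsIso (f.stalkMap y)) : ∃ U : X.Opens, f y ∈ U ∧ IsIso (f ∣_ U) := by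
  haveI := hy
  obtain ⟨U, hxU, σ, -, hσ⟩ := spread_out_of_isGermInjective (S := X) (𝟙 X) f
    (x := f y) (y := y) rfl (inv (f.stalkMap y)) (by simp)
  rw [Category.comp_id] at hσ
  refine ⟨U, hxU, ?_⟩
  have hle : Set.range σ ⊆ Set.range (f ⁻¹ᵁ U).ι := by
    rintro _ ⟨v, rfl⟩
    rw [Scheme.Opens.range_ι]
    show f (σ v) ∈ U
    rw [← Scheme.Hom.comp_apply, hσ]
    exact v.2
  let τ : (U : Scheme.{u}) ⟶ (f ⁻¹ᵁ U : Scheme.{u}) := IsOpenImmersion.lift (f ⁻¹ᵁ U).ι σ hle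
  have hτ : τ ≫ (f ∣_ U) = 𝟙 _ := by
    rw [← cancel_mono U.ι, Category.assoc, morphismRestrict_ι, IsOpenImmersion.lift_fac_assoc, hσ,
      Category.id_comp]
  haveI : IsClosedImmersion (τ ≫ (f ∣_ U)) := by rw [hτ]; infer_instance
  haveI : IsClosedImmersion τ := IsClosedImmersion.of_comp τ (f ∣_ U)
  haveI : Nonempty U.toScheme := ⟨⟨f y, hxU⟩⟩
  haveI : Surjective τ := ⟨fun z => by
    have hcl : IsClosed (Set.range τ) := τ.isClosedEmbedding.isClosed_range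
    haveI : Nonempty (f ⁻¹ᵁ U).toScheme := ⟨z⟩
    refine hcl.closure_subset_iff.2 (Set.singleton_subset_iff.2 ?_)
      ((genericPoint_spec (f ⁻¹ᵁ U).toScheme).ge (Set.mem_univ z))
    refine ⟨genericPoint U.toScheme, ?_⟩
    apply (f ⁻¹ᵁ U).ι.isOpenEmbedding.injective
    rw [← Scheme.Hom.comp_apply, IsOpenImmersion.lift_fac,
      genericPoint_eq_of_isOpenImmersion (f ⁻¹ᵁ U).ι]
    refine huniq _ ?_
    rw [← Scheme.Hom.comp_apply, hσ]
    exact genericPoint_eq_of_isOpenImmersion U.ι⟩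
  haveI : IsReduced (f ⁻¹ᵁ U : Scheme.{u}) := inferInstance
  haveI := isIso_of_isClosedImmersion_of_surjective τ
  rw [show f ∣_ U = inv τ from (IsIso.inv_eq_of_hom_inv_id hτ).symm]
  infer_instance

theorem iso_near_normal_point [IsIntegral X] [IsIntegral Y] (f : Y ⟶ X) [IsProper f] (W : X.Opens)
    (hW : (W : Set X).Nonempty) (hfW : IsIso (f ∣_ W)) (y : Y)
    (hx : IsIntegrallyClosed (X.presheaf.stalk (f y))) (hq : f.QuasiFiniteAt y) :
    ∃ V : X.Opens, f y ∈ V ∧ IsIso (f ∣_ V) := by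
  obtain ⟨hgen, hbir, huniq⟩ := generic_data f W hW hfW
  refine exists_isIso_of_isIso_stalkMap f hgen huniq y ?_
  obtain ⟨V₀, hV₀, hxV, -⟩ :=
    exists_isAffineOpen_mem_and_subset (x := f y) (U := ⊤) trivial
  haveI : IsAffine V₀.toScheme := hV₀
  haveI : Nonempty V₀.toScheme := ⟨⟨f y, hxV⟩⟩
  haveI : Nonempty (f ⁻¹ᵁ V₀).toScheme := ⟨⟨y, hxV⟩⟩
  let g := f ∣_ V₀
  let y' : (f ⁻¹ᵁ V₀).toScheme := ⟨y, hxV⟩
  have hι : ∀ z : (f ⁻¹ᵁ V₀).toScheme, V₀.ι (g z) = f ((f ⁻¹ᵁ V₀).ι z) := fun z => by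
    rw [← Scheme.Hom.comp_apply, morphismRestrict_ι, Scheme.Hom.comp_apply]
  have hgen' : g (genericPoint (f ⁻¹ᵁ V₀).toScheme) = genericPoint V₀.toScheme := by
    apply V₀.ι.isOpenEmbedding.injective
    rw [hι, genericPoint_eq_of_isOpenImmersion (f ⁻¹ᵁ V₀).ι,
      genericPoint_eq_of_isOpenImmersion V₀.ι, hgen]
  have key : ∀ z : (f ⁻¹ᵁ V₀).toScheme, IsIso (g.stalkMap z) ↔ IsIso (f.stalkMap z.1) := fun z =>
    (MorphismProperty.isomorphisms CommRingCat).arrow_mk_iso_iff (morphismRestrictStalkMap f V₀ z)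
  have hbir' : IsIso (g.stalkMap (genericPoint (f ⁻¹ᵁ V₀).toScheme)) := by
    rw [key]
    have := genericPoint_eq_of_isOpenImmersion (f ⁻¹ᵁ V₀).ι
    rw [Scheme.Opens.ι_apply] at this
    rw [this]
    exact hbir
  refine (key y').1 (Triage.ZMTBirPt.isIso_stalkMap g hgen' hbir' y' ?_ ?_)
  · rw [← Scheme.Hom.quasiFiniteAt_comp_iff (g := V₀.ι), morphismRestrict_ι,
      Scheme.Hom.quasiFiniteAt_comp_iff_of_isOpenImmersion]
    exact hq
  · refine IsIntegrallyClosed.of_equiv ?_ (h := hx)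
    have e := (V₀.stalkIso (g y')).commRingCatIsoToRingEquiv
    have hp : V₀.ι (g y') = f y := hι y'
    exact ((X.presheaf.stalkCongr (Inseparable.of_eq hp)).commRingCatIsoToRingEquiv).symm.trans e.symm

end Groth.Agent.VarBir
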